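import Cfsg.Agent.Lib.InvChar.SporData.J3XT.Data

set_option autoImplicit false
set_option maxRecDepth 100000

namespace CfsgLib.InvChar.Coset.J3XT

theorem chk_rows0 : table.chkRows cert live fin 1080 0 = true := by decide +kernel

end CfsgLib.InvChar.Coset.J3XT
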